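import Mathlib
import Groth.Prelude.Def_ega3
import Groth.Agent.Lib.Helper4.TruncCrit1
import Groth.Agent.Lib.Helper4.FlatHom1
import Groth.Agent.Lib.Helper6.FinLenEq.Alg

set_option linter.style.haveILetI false
set_option linter.unusedVariables false
set_option linter.unusedSectionVars false
set_option autoImplicit false
set_option backward.isDefEq.respectTransparency.types false
set_option backward.isDefEq.respectTransparency false
set_option synthInstance.maxHeartbeats 400000
set_option maxHeartbeats 1600000

universe u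

/-! helper7: for a complex of finite free modules over a Noetherian local ring, the functor `T^p` is exact if and only if the lengths of its values on the truncations of the ring are eventually multiplicative -/

open CategoryTheory CategoryTheory.Limits TensorProduct
open Groth.Agent.Lib.Helper4.HomEl1
open Groth.Agent.Lib.Helper4.ExchAlg1
open Groth.Agent.Lib.Helper4.ExchAlg2
open Groth.Agent.Lib.Helper4.TruncCrit1

namespace Groth.Agent.Helper7.CohLen

section ENatLemmas

theorem enat_squeeze {a b a' b' X Y : ℕ∞} (ha : a ≤ a') (ha' : a' ≤ X) (hb : b ≤ b')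
    (hb' : b' ≤ Y) (hX : X ≠ ⊤) (hY : Y ≠ ⊤) (h : a + b = X + Y) : a = a' ∧ b = b' := by
  lift X to ℕ using hX
  lift Y to ℕ using hY
  lift a' to ℕ using ne_top_of_le_ne_top (ENat.natCast_ne_top X) ha'
  lift b' to ℕ using ne_top_of_le_ne_top (ENat.natCast_ne_top Y) hb'
  lift a to ℕ using ne_top_of_le_ne_top (ENat.natCast_ne_top a') ha
  lift b to ℕ using ne_top_of_le_ne_top (ENat.natCast_ne_top b') hb
  norm_cast at ha ha' hb hb' h ⊢
  omega

theorem enat_mul_ne_top {a b : ℕ∞} (ha : a ≠ ⊤) (hb : b ≠ ⊤) : a * b ≠ ⊤ := by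
  lift a to ℕ using ha
  lift b to ℕ using hb
  exact_mod_cast ENat.natCast_ne_top (a * b)

end ENatLemmas

section LinSplit

variable {A : Type u} [CommRing A] {P' P P'' : Type u} [AddCommGroup P'] [Module A P']
  [AddCommGroup P] [Module A P] [AddCommGroup P''] [Module A P'']

/-- lengths along a sequence exact in the middle -/
theorem lin_split (u : P' →ₗ[A] P) (v : P →ₗ[A] P'') (hle : LinearMap.range u ≤ LinearMap.ker v)
    (hge : LinearMap.ker v ≤ LinearMap.range u) :
    ∃ a b : ℕ∞, Module.length A P = a + b ∧ a ≤ Module.length A P' ∧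
      b ≤ Module.length A P'' ∧
      (a = Module.length A P' → Module.length A P' ≠ ⊤ → Function.Injective u) ∧
      (b = Module.length A P'' → Module.length A P'' ≠ ⊤ → Function.Surjective v) := by
  have hφ : Function.Injective ((LinearMap.range u).liftQ v hle) := by
    rw [← LinearMap.ker_eq_bot]
    exact Submodule.ker_liftQ_eq_bot _ v hle hge
  refine ⟨Module.length A (LinearMap.range u), Module.length A (P ⧸ LinearMap.range u),
    ?_, ?_, ?_, ?_, ?_⟩
  · exact Module.length_eq_add_of_exact (LinearMap.range u).subtype (LinearMap.range u).mkQ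
      (Submodule.subtype_injective _) (Submodule.mkQ_surjective _)
      (LinearMap.exact_subtype_mkQ _)
  · exact Module.length_le_of_surjective u.rangeRestrict u.surjective_rangeRestrict
  · exact Module.length_le_of_injective _ hφ
  · intro h1 h2
    have h3 := Module.length_eq_add_of_exact (LinearMap.ker u).subtype u.rangeRestrict
      (Submodule.subtype_injective _) u.surjective_rangeRestrict (by
        rw [LinearMap.exact_iff, LinearMap.ker_rangeRestrict, Submodule.range_subtype])
    rw [← h1] at h3 h2
    have h4 : Module.length A (LinearMap.ker u) = 0 := by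
      apply ENat.add_left_injective_of_ne_top h2
      change Module.length A (LinearMap.ker u) + Module.length A (LinearMap.range u) =
        0 + Module.length A (LinearMap.range u)
      rw [zero_add]
      exact h3.symm
    rw [Module.length_eq_zero_iff] at h4
    haveI := h4
    rw [← LinearMap.ker_eq_bot]
    exact Submodule.eq_bot_of_subsingleton
  · intro h1 h2
    have h3 := Module.length_eq_add_of_exact ((LinearMap.range u).liftQ v hle)
      (LinearMap.range ((LinearMap.range u).liftQ v hle)).mkQ hφ (Submodule.mkQ_surjective _)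
      (LinearMap.exact_map_mkQ_range _)
    rw [← h1] at h3 h2
    have h4 : Module.length A (P'' ⧸ LinearMap.range ((LinearMap.range u).liftQ v hle)) = 0 := by
      apply ENat.add_right_injective_of_ne_top h2
      change Module.length A (P ⧸ LinearMap.range u) +
        Module.length A (P'' ⧸ LinearMap.range ((LinearMap.range u).liftQ v hle)) =
        Module.length A (P ⧸ LinearMap.range u) + 0
      rw [add_zero]
      exact h3.symm
    rw [Module.length_eq_zero_iff, Submodule.Quotient.subsingleton_iff,
      LinearMap.range_eq_top] at h4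
    intro y
    obtain ⟨x, rfl⟩ := h4 y
    obtain ⟨x, rfl⟩ := Submodule.mkQ_surjective _ x
    exact ⟨x, rfl⟩

end LinSplit

section Alg

variable {A : Type u} [CommRing A] (K : CochainComplex (ModuleCat.{u} A) ℤ)

/-- if `T^p` preserves surjections then `T^{p+1}` preserves injections -/
theorem presInj_of_presSurj (o p q r : ℤ) (hop : o + 1 = p) (hpq : p + 1 = q) (hqr : q + 1 = r)
    [Module.Flat A (K.X q)] (h : PresSurj K p) : PresInj K q := by
  intro M' M j hj
  rw [injective_iff_map_eq_zero]
  intro c hc
  obtain ⟨x, rfl⟩ := cls_surjective (KM K M') q r hqr c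
  let M'' : ModuleCat.{u} A := ModuleCat.of A (M ⧸ LinearMap.range j.hom)
  let g : M ⟶ M'' := ModuleCat.ofHom (LinearMap.range j.hom).mkQ
  have hg : Function.Surjective g.hom := Submodule.mkQ_surjective _
  have hex : Function.Exact j.hom g.hom := LinearMap.exact_map_mkQ_range j.hom
  have hgj : g.hom ∘ₗ j.hom = 0 := by
    apply LinearMap.ext
    intro m
    exact (hex (j.hom m)).2 ⟨m, rfl⟩
  have hdd : (K.d p q).hom ∘ₗ (K.d o p).hom = 0 := by
    apply LinearMap.ext
    intro w
    exact ConcreteCategory.congr_hom (K.d_comp_d o p q) w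
  have h0 : cls (KM K M) q r hqr
      ⟨((CohIII.tensorMap K j).f q).hom x.1, map_mem (CohIII.tensorMap K j) q r x⟩ = 0 :=
    (map_cls (CohIII.tensorMap K j) q r hqr x).symm.trans hc
  obtain ⟨y, hy'⟩ : ∃ y : (K.X p) ⊗[A] M,
      (K.d p q).hom.rTensor M y = j.hom.lTensor (K.X q) x.1 :=
    (cls_eq_zero_iff (KM K M) p q r hpq hqr _).1 h0
  have hz'' : g.hom.lTensor (K.X p) y ∈ Zs (KM K M'') p q := by
    change (K.d p q).hom.rTensor M'' (g.hom.lTensor (K.X p) y) = 0
    rw [← lr_comm, hy', ← LinearMap.comp_apply, ← LinearMap.lTensor_comp, hgj,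
      LinearMap.lTensor_zero, LinearMap.zero_apply]
  obtain ⟨c₁, hc₁⟩ := h M M'' g hg (cls (KM K M'') p q hpq ⟨_, hz''⟩)
  obtain ⟨z, rfl⟩ := cls_surjective (KM K M) p q hpq c₁
  have hc₂ : cls (KM K M'') p q hpq
      ⟨((CohIII.tensorMap K g).f p).hom z.1, map_mem (CohIII.tensorMap K g) p q z⟩ =
      cls (KM K M'') p q hpq ⟨_, hz''⟩ :=
    (map_cls (CohIII.tensorMap K g) p q hpq z).symm.trans hc₁
  have hd : cls (KM K M'') p q hpq
      (⟨_, hz''⟩ - ⟨((CohIII.tensorMap K g).f p).hom z.1,
        map_mem (CohIII.tensorMap K g) p q z⟩) = 0 := by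
    rw [map_sub, hc₂, sub_self]
  obtain ⟨z₀, hz₀⟩ : ∃ z₀ : (K.X p) ⊗[A] M, z₀ = z.1 := ⟨z.1, rfl⟩
  obtain ⟨w'', hw2⟩ : ∃ w'' : (K.X o) ⊗[A] M'', (K.d o p).hom.rTensor M'' w'' =
      g.hom.lTensor (K.X p) y - g.hom.lTensor (K.X p) z₀ := by
    rw [hz₀]
    exact (cls_eq_zero_iff (KM K M'') o p q hop hpq _).1 hd
  obtain ⟨w, hw⟩ := LinearMap.lTensor_surjective (K.X o) hg w''
  have hz1 : (K.d p q).hom.rTensor M z₀ = 0 := by
    rw [hz₀]
    exact z.2
  have hker : g.hom.lTensor (K.X p) (y - z₀ - (K.d o p).hom.rTensor M w) = 0 := by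
    rw [map_sub, map_sub, lr_comm, hw, hw2]
    abel
  obtain ⟨y', hy''⟩ := (lTensor_exact (K.X p) hex hg _).1 hker
  have hd2 : (K.d p q).hom.rTensor M ((K.d o p).hom.rTensor M w) = 0 := by
    rw [← LinearMap.comp_apply, ← LinearMap.rTensor_comp, hdd, LinearMap.rTensor_zero,
      LinearMap.zero_apply]
  have hdx : (K.d p q).hom.rTensor M' y' = x.1 := by
    apply Module.Flat.lTensor_preserves_injective_linearMap (M := K.X q) j.hom hj
    rw [lr_comm, hy'', map_sub, map_sub, hy', hz1, hd2, sub_zero, sub_zero]
  exact (cls_eq_zero_iff (KM K M') p q r hpq hqr x).2 ⟨y', hdx⟩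

/-- the connecting argument for a single surjection: if `T^{p+1}` is injective on the inclusion
of the kernel then `T^p` is surjective on the surjection -/
theorem surjective_of_injective_ker (p q r : ℤ) (hpq : p + 1 = q) (hqr : q + 1 = r)
    [Module.Flat A (K.X q)] [Module.Flat A (K.X r)] {M M'' : ModuleCat.{u} A} (g : M ⟶ M'')
    (hg : Function.Surjective g.hom)
    (h : Function.Injective ((CohIII.TFun K q).map
      (ModuleCat.ofHom (LinearMap.ker g.hom).subtype :
        ModuleCat.of A (LinearMap.ker g.hom) ⟶ M)).hom) :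
    Function.Surjective ((CohIII.TFun K p).map g).hom := by
  intro c''
  obtain ⟨z'', rfl⟩ := cls_surjective (KM K M'') p q hpq c''
  let M' : ModuleCat.{u} A := ModuleCat.of A (LinearMap.ker g.hom)
  let j : M' ⟶ M := ModuleCat.ofHom (LinearMap.ker g.hom).subtype
  have hj : Function.Injective j.hom := Subtype.val_injective
  have hex : Function.Exact j.hom g.hom := LinearMap.exact_subtype_ker_map g.hom
  have hgj : g.hom ∘ₗ j.hom = 0 := by
    apply LinearMap.ext
    intro x
    exact x.2
  obtain ⟨y, hy⟩ := LinearMap.lTensor_surjective (K.X p) hg z''.1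
  have hu : g.hom.lTensor (K.X q) ((K.d p q).hom.rTensor M y) = 0 := by
    rw [lr_comm, hy]
    exact z''.2
  obtain ⟨x, hx⟩ := (lTensor_exact (K.X q) hex hg _).1 hu
  have hxc : x ∈ Zs (KM K M') q r := by
    change (K.d q r).hom.rTensor M' x = 0
    apply Module.Flat.lTensor_preserves_injective_linearMap (M := K.X r) j.hom hj
    rw [map_zero, lr_comm, hx, ← LinearMap.comp_apply, ← LinearMap.rTensor_comp]
    have : (K.d q r).hom ∘ₗ (K.d p q).hom = 0 := by
      apply LinearMap.ext
      intro w
      exact ConcreteCategory.congr_hom (K.d_comp_d p q r) w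
    rw [this, LinearMap.rTensor_zero, LinearMap.zero_apply]
  have h0 : ((CohIII.TFun K q).map j).hom (cls (KM K M') q r hqr ⟨x, hxc⟩) = 0 := by
    refine (map_cls (CohIII.tensorMap K j) q r hqr _).trans ?_
    refine (cls_eq_zero_iff (KM K M) p q r hpq hqr _).2 ⟨y, ?_⟩
    exact hx.symm
  have h1 : cls (KM K M') q r hqr ⟨x, hxc⟩ = 0 := h (h0.trans (map_zero _).symm)
  obtain ⟨y', hy'⟩ := (cls_eq_zero_iff (KM K M') p q r hpq hqr _).1 h1
  have hy'' : (K.d p q).hom.rTensor M' y' = x := hy'
  have hz : y - j.hom.lTensor (K.X p) y' ∈ Zs (KM K M) p q := by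
    change (K.d p q).hom.rTensor M (y - j.hom.lTensor (K.X p) y') = 0
    rw [map_sub, ← lr_comm, hy'', hx, sub_self]
  refine ⟨cls (KM K M) p q hpq ⟨_, hz⟩, ?_⟩
  refine (map_cls (CohIII.tensorMap K g) p q hpq _).trans ?_
  congr 1
  apply Subtype.ext
  change g.hom.lTensor (K.X p) (y - j.hom.lTensor (K.X p) y') = z''.1
  rw [map_sub, hy, ← LinearMap.comp_apply, ← LinearMap.lTensor_comp, hgj, LinearMap.lTensor_zero,
    LinearMap.zero_apply, sub_zero]

/-- the functors `T^p` kill the composite of a sequence -/
theorem map_comp_eq_zero (p q : ℤ) (hpq : p + 1 = q) {M' M M'' : ModuleCat.{u} A} (j : M' ⟶ M)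
    (g : M ⟶ M'') (hgj : g.hom ∘ₗ j.hom = 0) (c : (CohIII.TFun K p).obj M') :
    ((CohIII.TFun K p).map g).hom (((CohIII.TFun K p).map j).hom c) = 0 := by
  obtain ⟨z, rfl⟩ := cls_surjective (KM K M') p q hpq c
  have key : ∀ z'' : Zs (KM K M'') p q, z''.1 = 0 → cls (KM K M'') p q hpq z'' = 0 := by
    intro z'' h
    have : z'' = 0 := Subtype.ext h
    rw [this, map_zero]
  refine (congrArg ((CohIII.TFun K p).map g).hom
    (map_cls (CohIII.tensorMap K j) p q hpq z)).trans ?_
  refine (map_cls (CohIII.tensorMap K g) p q hpq _).trans ?_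
  apply key
  change g.hom.lTensor (K.X p) (j.hom.lTensor (K.X p) z.1) = 0
  rw [← LinearMap.comp_apply, ← LinearMap.lTensor_comp, hgj, LinearMap.lTensor_zero,
    LinearMap.zero_apply]

/-- the functors `T^p` are exact in the middle -/
theorem ker_le_range (o p q : ℤ) (hop : o + 1 = p) (hpq : p + 1 = q) [Module.Flat A (K.X q)]
    {M' M M'' : ModuleCat.{u} A} (j : M' ⟶ M) (g : M ⟶ M'') (hj : Function.Injective j.hom)
    (hg : Function.Surjective g.hom) (hex : Function.Exact j.hom g.hom) :
    LinearMap.ker ((CohIII.TFun K p).map g).hom ≤ LinearMap.range ((CohIII.TFun K p).map j).hom := by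
  intro c hc
  rw [LinearMap.mem_ker] at hc
  obtain ⟨z, rfl⟩ := cls_surjective (KM K M) p q hpq c
  have hdd : (K.d p q).hom ∘ₗ (K.d o p).hom = 0 := by
    apply LinearMap.ext
    intro w
    exact ConcreteCategory.congr_hom (K.d_comp_d o p q) w
  obtain ⟨z₀, hz₀⟩ : ∃ z₀ : (K.X p) ⊗[A] M, z₀ = z.1 := ⟨z.1, rfl⟩
  have hz1 : (K.d p q).hom.rTensor M z₀ = 0 := by
    rw [hz₀]
    exact z.2
  have h0 : cls (KM K M'') p q hpq
      ⟨((CohIII.tensorMap K g).f p).hom z.1, map_mem (CohIII.tensorMap K g) p q z⟩ = 0 :=
    (map_cls (CohIII.tensorMap K g) p q hpq z).symm.trans hc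
  obtain ⟨w'', hw2⟩ : ∃ w'' : (K.X o) ⊗[A] M'', (K.d o p).hom.rTensor M'' w'' =
      g.hom.lTensor (K.X p) z₀ := by
    rw [hz₀]
    exact (cls_eq_zero_iff (KM K M'') o p q hop hpq _).1 h0
  obtain ⟨w, hw⟩ := LinearMap.lTensor_surjective (K.X o) hg w''
  have hker : g.hom.lTensor (K.X p) (z₀ - (K.d o p).hom.rTensor M w) = 0 := by
    rw [map_sub, lr_comm, hw, hw2, sub_self]
  obtain ⟨z', hz'⟩ := (lTensor_exact (K.X p) hex hg _).1 hker
  have hd2 : (K.d p q).hom.rTensor M ((K.d o p).hom.rTensor M w) = 0 := by
    rw [← LinearMap.comp_apply, ← LinearMap.rTensor_comp, hdd, LinearMap.rTensor_zero,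
      LinearMap.zero_apply]
  have hz'c : z' ∈ Zs (KM K M') p q := by
    change (K.d p q).hom.rTensor M' z' = 0
    apply Module.Flat.lTensor_preserves_injective_linearMap (M := K.X q) j.hom hj
    rw [map_zero, lr_comm, hz', map_sub, hz1, hd2, sub_zero]
  refine ⟨cls (KM K M') p q hpq ⟨z', hz'c⟩, ?_⟩
  refine (map_cls (CohIII.tensorMap K j) p q hpq _).trans ?_
  have hsub : cls (KM K M) p q hpq (z - ⟨((CohIII.tensorMap K j).f p).hom z',
      map_mem (CohIII.tensorMap K j) p q ⟨z', hz'c⟩⟩) = 0 := by
    refine (cls_eq_zero_iff (KM K M) o p q hop hpq _).2 ⟨w, ?_⟩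
    have hthis : (K.d o p).hom.rTensor M w = z₀ - j.hom.lTensor (K.X p) z' := by
      rw [hz']
      abel
    rw [hz₀] at hthis
    exact hthis
  rw [map_sub, sub_eq_zero] at hsub
  exact hsub.symm

/-- lengths of the values of `T^p` along a short exact sequence -/
theorem length_split (o p q : ℤ) (hop : o + 1 = p) (hpq : p + 1 = q) [Module.Flat A (K.X q)]
    {M' M M'' : ModuleCat.{u} A} (j : M' ⟶ M) (g : M ⟶ M'') (hj : Function.Injective j.hom)
    (hg : Function.Surjective g.hom) (hex : Function.Exact j.hom g.hom) :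
    ∃ a b : ℕ∞, Module.length A ((CohIII.TFun K p).obj M) = a + b ∧
      a ≤ Module.length A ((CohIII.TFun K p).obj M') ∧
      b ≤ Module.length A ((CohIII.TFun K p).obj M'') ∧
      (a = Module.length A ((CohIII.TFun K p).obj M') →
        Module.length A ((CohIII.TFun K p).obj M') ≠ ⊤ →
        Function.Injective ((CohIII.TFun K p).map j).hom) ∧
      (b = Module.length A ((CohIII.TFun K p).obj M'') →
        Module.length A ((CohIII.TFun K p).obj M'') ≠ ⊤ →
        Function.Surjective ((CohIII.TFun K p).map g).hom) := by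
  have hgj : g.hom ∘ₗ j.hom = 0 := by
    apply LinearMap.ext
    intro m
    exact (hex (j.hom m)).2 ⟨m, rfl⟩
  exact lin_split ((CohIII.TFun K p).map j).hom ((CohIII.TFun K p).map g).hom
    (by
      rintro _ ⟨c, rfl⟩
      exact map_comp_eq_zero K p q hpq j g hgj c)
    (ker_le_range K o p q hop hpq j g hj hg hex)

section Transfer

variable (p : ℤ) {G : ModuleCat.{u} A ⥤ AddCommGrpCat.{u}}
  (e : CohIII.TFun K p ⋙ forget₂ (ModuleCat.{u} A) AddCommGrpCat.{u} ≅ G)

include e in
theorem preservesMono_iff : G.PreservesMonomorphisms ↔ PresInj K p := by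
  constructor
  · intro h M' M j hj
    haveI : Mono j := (ModuleCat.mono_iff_injective j).2 hj
    have h1 : Mono (G.map j) := h.preserves j
    exact (map_injective_iff K p e j).1 ((AddCommGrpCat.mono_iff_injective _).1 h1)
  · intro h
    constructor
    intro M' M j hj
    exact (AddCommGrpCat.mono_iff_injective _).2
      ((map_injective_iff K p e j).2 (h M' M j ((ModuleCat.mono_iff_injective j).1 hj)))

end Transfer

end Alg

section Local

variable {A : Type u} [CommRing A] [IsLocalRing A] [IsNoetherianRing A]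
  (K : CochainComplex (ModuleCat.{u} A) ℤ)

open IsLocalRing

theorem length_residueField : Module.length A (ResidueField A) = 1 := by
  rw [Module.length_eq_of_surjective (S := A) (R := ResidueField A) (M := ResidueField A)
    IsLocalRing.residue_surjective, Module.length_eq_finrank]
  simp

/-- a crude bound for the length of `T^p(M)` -/
theorem length_TT_le_card (p q : ℤ) (hpq : p + 1 = q) [Module.Finite A (K.X p)]
    [Module.Free A (K.X p)] (M : Type u) [AddCommGroup M] [Module A M] :
    Module.length A ((CohIII.TFun K p).obj (ModuleCat.of A M)) ≤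
      ENat.card (Module.Free.ChooseBasisIndex A (K.X p)) * Module.length A M := by
  classical
  have h1 : Module.length A ((CohIII.TFun K p).obj (ModuleCat.of A M)) ≤
      Module.length A (Zs (KM K (ModuleCat.of A M)) p q) :=
    Module.length_le_of_surjective (cls (KM K (ModuleCat.of A M)) p q hpq)
      (cls_surjective (KM K (ModuleCat.of A M)) p q hpq)
  have h2 : Module.length A (Zs (KM K (ModuleCat.of A M)) p q) ≤
      Module.length A ((K.X p) ⊗[A] M) :=
    Module.length_le_of_injective (Zs (KM K (ModuleCat.of A M)) p q).subtype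
      (Submodule.subtype_injective _)
  let e : (K.X p) ⊗[A] M ≃ₗ[A] (Module.Free.ChooseBasisIndex A (K.X p)) →₀ M :=
    TensorProduct.congr (Module.Free.chooseBasis A (K.X p)).repr (LinearEquiv.refl A M) ≪≫ₗ
      TensorProduct.finsuppScalarLeft A M _
  have h3 := e.length_eq
  rw [Module.length_finsupp] at h3
  exact h1.trans (h2.trans h3.le)

/-- the length of `T^p(M)` is at most the length of `M` times the length of `T^p` of the residue
field -/
theorem length_TT_le (o p q : ℤ) (hop : o + 1 = p) (hpq : p + 1 = q) [Module.Flat A (K.X q)]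
    [Module.Finite A (K.X p)] [Module.Free A (K.X p)] (M : Type u) [AddCommGroup M] [Module A M]
    (h : IsFiniteLength A M) :
    Module.length A ((CohIII.TFun K p).obj (ModuleCat.of A M)) ≤
      Module.length A ((CohIII.TFun K p).obj (ModuleCat.of A (ResidueField A))) *
        Module.length A M := by
  induction h with
  | @of_subsingleton M _ _ hsub =>
    have h0 : Module.length A M = 0 := Module.length_eq_zero
    have hb := length_TT_le_card K p q hpq M
    rw [h0, mul_zero] at hb ⊢
    exact hb
  | @of_simple_quotient M _ _ N hs hN ih =>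
    classical
    obtain ⟨I, hI, ⟨e⟩⟩ := isSimpleModule_iff_quot_maximal.1 hs
    obtain rfl : I = maximalIdeal A := IsLocalRing.eq_maximalIdeal hI
    let e' : (M ⧸ N) ≃ₗ[A] ResidueField A := e
    obtain ⟨a, b, hab, ha, hb, -, -⟩ := length_split K o p q hop hpq
      (ModuleCat.ofHom N.subtype) (ModuleCat.ofHom N.mkQ)
      (Submodule.subtype_injective N) (Submodule.mkQ_surjective N)
      (LinearMap.exact_subtype_mkQ N)
    have hq : Module.length A ((CohIII.TFun K p).obj (ModuleCat.of A (M ⧸ N))) =
        Module.length A ((CohIII.TFun K p).obj (ModuleCat.of A (ResidueField A))) :=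
      (((CohIII.TFun K p).mapIso e'.toModuleIso).toLinearEquiv).length_eq
    have hM : Module.length A M = Module.length A N + 1 := by
      rw [Module.length_eq_add_of_exact N.subtype N.mkQ (Submodule.subtype_injective N)
        (Submodule.mkQ_surjective N) (LinearMap.exact_subtype_mkQ N),
        Module.length_eq_one A (M ⧸ N)]
    rw [hab, hM, mul_add, mul_one]
    exact add_le_add (ha.trans ih) (hb.trans hq.le)

/-- if the length of `T^p(M)` is the maximal one then `T^p` is exact on every short exact sequence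
with middle term `M` -/
theorem inj_surj_of_length_eq (o p q : ℤ) (hop : o + 1 = p) (hpq : p + 1 = q)
    [Module.Flat A (K.X q)] [Module.Finite A (K.X p)] [Module.Free A (K.X p)]
    (M M'' : Type u) [AddCommGroup M] [Module A M] [AddCommGroup M''] [Module A M'']
    (g : M →ₗ[A] M'') (hg : Function.Surjective g) (hfin : IsFiniteLength A M)
    (hc : Module.length A ((CohIII.TFun K p).obj (ModuleCat.of A (ResidueField A))) ≠ ⊤)
    (heq : Module.length A ((CohIII.TFun K p).obj (ModuleCat.of A M)) =
      Module.length A ((CohIII.TFun K p).obj (ModuleCat.of A (ResidueField A))) *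
        Module.length A M) :
    Function.Injective ((CohIII.TFun K p).map
        (ModuleCat.ofHom (LinearMap.ker g).subtype)).hom ∧
      Function.Surjective ((CohIII.TFun K p).map (ModuleCat.ofHom g)).hom := by
  have hex : Function.Exact (LinearMap.ker g).subtype g := LinearMap.exact_subtype_ker_map g
  have hfin' : IsFiniteLength A (LinearMap.ker g) :=
    IsFiniteLength.of_injective hfin (Submodule.subtype_injective _)
  have hfin'' : IsFiniteLength A M'' := IsFiniteLength.of_surjective hfin hg
  have hB' := length_TT_le K o p q hop hpq (LinearMap.ker g) hfin'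
  have hB'' := length_TT_le K o p q hop hpq M'' hfin''
  have hlen : Module.length A M = Module.length A (LinearMap.ker g) + Module.length A M'' :=
    Module.length_eq_add_of_exact _ _ (Submodule.subtype_injective _) hg hex
  obtain ⟨a, b, hab, ha, hb, hinj, hsurj⟩ := length_split K o p q hop hpq
    (ModuleCat.ofHom (LinearMap.ker g).subtype) (ModuleCat.ofHom g)
    (Submodule.subtype_injective _) hg hex
  have hX := enat_mul_ne_top hc (Module.length_ne_top_iff.2 hfin')
  have hY := enat_mul_ne_top hc (Module.length_ne_top_iff.2 hfin'')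
  have hsum : a + b =
      Module.length A ((CohIII.TFun K p).obj (ModuleCat.of A (ResidueField A))) *
          Module.length A (LinearMap.ker g) +
        Module.length A ((CohIII.TFun K p).obj (ModuleCat.of A (ResidueField A))) *
          Module.length A M'' := by
    rw [← hab, heq, hlen, mul_add]
  obtain ⟨h1, h2⟩ := enat_squeeze ha hB' hb hB'' hX hY hsum
  exact ⟨hinj h1 (ne_top_of_le_ne_top hX hB'), hsurj h2 (ne_top_of_le_ne_top hY hB'')⟩

/-- the truncation maps -/
noncomputable abbrev gn (A : Type u) [CommRing A] [IsLocalRing A] (n : ℕ) :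
    (A ⧸ maximalIdeal A ^ (n + 1)) →ₗ[A] (A ⧸ maximalIdeal A) :=
  (Ideal.Quotient.factorₐ A (Ideal.pow_le_self (I := maximalIdeal A)
    (Nat.succ_ne_zero n))).toLinearMap

/-- **eventual multiplicativity of the lengths gives exactness** -/
theorem exact_of_length_formula (oo o p q : ℤ) (hoo : oo + 1 = o) (hop : o + 1 = p)
    (hpq : p + 1 = q) [∀ i, Module.Finite A (K.X i)] [∀ i, Module.Free A (K.X i)]
    (h : ∃ n₀ : ℕ, ∀ n : ℕ, n₀ ≤ n →
      Module.length A ((CohIII.TFun K p).obj
          (ModuleCat.of A (A ⧸ maximalIdeal A ^ (n + 1)))) =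
        Module.length A ((CohIII.TFun K p).obj (ModuleCat.of A (ResidueField A))) *
          Module.length A (A ⧸ maximalIdeal A ^ (n + 1))) :
    PresInj K p ∧ PresSurj K p := by
  obtain ⟨n₀, h⟩ := h
  have hc : Module.length A ((CohIII.TFun K p).obj (ModuleCat.of A (ResidueField A))) ≠ ⊤ := by
    have h1 := length_TT_le_card K p q hpq (ResidueField A)
    rw [length_residueField, mul_one] at h1
    exact ne_top_of_le_ne_top (ENat.card_lt_top_of_finite).ne h1
  have hgs : ∀ n : ℕ, Function.Surjective (gn A n) := fun n =>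
    Ideal.Quotient.factor_surjective (Ideal.pow_le_self (I := maximalIdeal A)
      (Nat.succ_ne_zero n))
  have key : ∀ n : ℕ, n₀ ≤ n →
      Function.Injective ((CohIII.TFun K p).map
        (ModuleCat.ofHom (LinearMap.ker (gn A n)).subtype)).hom ∧
      Function.Surjective ((CohIII.TFun K p).map (ModuleCat.ofHom (gn A n))).hom := fun n hn =>
    inj_surj_of_length_eq K o p q hop hpq _ _ (gn A n) (hgs n)
      (Groth.Agent.Helper6.FinLenEq.finLen_quot_pow n) hc (h n hn)
  have hfac : ∀ (r : ℤ) (n : ℕ),
      Function.Surjective ((CohIII.TFun K r).map (ModuleCat.ofHom (gn A (max n n₀)))).hom →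
      Function.Surjective ((CohIII.TFun K r).map (ModuleCat.ofHom (gn A n))).hom := by
    intro r n hs
    have hle : maximalIdeal A ^ (max n n₀ + 1) ≤ maximalIdeal A ^ (n + 1) :=
      Ideal.pow_le_pow_right (Nat.succ_le_succ (le_max_left n n₀))
    let hh : (A ⧸ maximalIdeal A ^ (max n n₀ + 1)) →ₗ[A] (A ⧸ maximalIdeal A ^ (n + 1)) :=
      (Ideal.Quotient.factorₐ A hle).toLinearMap
    have hcomp : gn A (max n n₀) = gn A n ∘ₗ hh := by
      apply LinearMap.ext
      intro x
      obtain ⟨x, rfl⟩ := Ideal.Quotient.mk_surjective x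
      rfl
    have hcat : ModuleCat.ofHom (gn A (max n n₀)) =
        ModuleCat.ofHom hh ≫ ModuleCat.ofHom (gn A n) := by
      rw [hcomp]
      rfl
    rw [hcat, Functor.map_comp] at hs
    intro y
    obtain ⟨x, hx⟩ := hs y
    exact ⟨((CohIII.TFun K r).map (ModuleCat.ofHom hh)).hom x, hx⟩
  refine ⟨?_, ?_⟩
  · have hS : PresSurj K o := by
      apply presSurj_of_truncations K oo o p hoo hop
      intro n
      apply hfac o n
      exact surjective_of_injective_ker K o p q hop hpq (ModuleCat.ofHom (gn A (max n n₀)))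
        (hgs _) (key _ (le_max_right _ _)).1
    exact presInj_of_presSurj K oo o p q hoo hop hpq hS
  · apply presSurj_of_truncations K o p q hop hpq
    intro n
    exact hfac p n (key _ (le_max_right _ _)).2

/-- **exactness gives multiplicativity of the lengths** -/
theorem length_formula_of_exact (oo o p q : ℤ) (hoo : oo + 1 = o) (hop : o + 1 = p)
    (hpq : p + 1 = q) [∀ i, Module.Finite A (K.X i)] [∀ i, Module.Free A (K.X i)]
    (hI : PresInj K p) (hS : PresSurj K p) (M : Type u) [AddCommGroup M] [Module A M] :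
    Module.length A ((CohIII.TFun K p).obj (ModuleCat.of A M)) =
      Module.length A ((CohIII.TFun K p).obj (ModuleCat.of A (ResidueField A))) *
        Module.length A M := by
  classical
  have hSo : PresSurj K o := presSurj_of_presInj K o p q hop hpq hI
  haveI : Module.Flat A (Wq K o p) := (presSurj_iff_flat K oo o p hoo hop).1 hSo
  haveI : Module.Flat A (Wq K p q) := (presSurj_iff_flat K o p q hop hpq).1 hS
  haveI : Module.Flat A (Bq K p q) :=
    Groth.Agent.Lib.Helper4.FlatHom1.flat_Bq_of_flat_Wq K (fun i => inferInstance) p q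
  obtain ⟨hfin, hproj, -⟩ :=
    Groth.Agent.Lib.Helper4.GrauertAlg1.projective_homology K o p q hop hpq
  haveI := hfin
  haveI := hproj
  haveI : Module.Free A (K.homology p) := Module.free_of_flat_of_isLocalRing
  have key : ∀ (N : Type u) [AddCommGroup N] [Module A N],
      Module.length A ((CohIII.TFun K p).obj (ModuleCat.of A N)) =
        ENat.card (Module.Free.ChooseBasisIndex A (K.homology p)) * Module.length A N := by
    intro N _ _
    let e : (CohIII.TFun K p).obj (ModuleCat.of A N) ≃ₗ[A]
        (Module.Free.ChooseBasisIndex A (K.homology p)) →₀ N :=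
      Groth.Agent.Lib.Helper4.FlatHom1.homTensorEquiv K o p q hop hpq (ModuleCat.of A N) ≪≫ₗ
        TensorProduct.congr (Module.Free.chooseBasis A (K.homology p)).repr
          (LinearEquiv.refl A N) ≪≫ₗ
        TensorProduct.finsuppScalarLeft A N _
    have h3 := e.length_eq
    rw [Module.length_finsupp] at h3
    exact h3
  rw [key M, key (ResidueField A), length_residueField, mul_one]

end Local

end Groth.Agent.Helper7.CohLen
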