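import Mathlib
import Groth.Prelude.Def_ega3
import Groth.Agent.Lib.Helper4.FibSurj1
import Groth.Agent.Lib.Helper4.CechTen3

set_option linter.style.haveILetI false
set_option linter.unusedVariables false
set_option linter.unusedSectionVars false
set_option autoImplicit false
set_option backward.isDefEq.respectTransparency.types false
set_option backward.isDefEq.respectTransparency false
set_option synthInstance.maxHeartbeats 400000
set_option maxHeartbeats 1600000

universe u

/-! helper7: the comparison between the cohomology of `F ⊗ M` and the homology of Mumford's complex tensored with `M` is linear over the base ring -/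

open CategoryTheory CategoryTheory.Limits Opposite TopologicalSpace AlgebraicGeometry TensorProduct
open Groth.Agent.Lib.Helper4.BaseChgRing1
open Groth.Agent.Lib.Helper4.TenSec2
open Groth.Agent.Lib.Helper4.HomEl1
open Groth.Agent.Lib.Helper4.ExchAlg1
open Groth.Agent.Lib.Helper4.MumBC2

namespace Groth.Agent.Helper7.CohLen

section Mul

variable {A : Type u} [CommRing A]

/-- multiplication by a scalar on a module -/
noncomputable abbrev mulM (a : A) (M : ModuleCat.{u} A) : M ⟶ M :=
  ModuleCat.ofHom (a • (LinearMap.id : M →ₗ[A] M))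

/-- the functors `T^p` are linear -/
theorem TFun_map_mulM (K : CochainComplex (ModuleCat.{u} A) ℤ) (p : ℤ) (M : ModuleCat.{u} A)
    (a : A) (x : (CohIII.TFun K p).obj M) :
    ((CohIII.TFun K p).map (mulM a M)).hom x = a • x := by
  obtain ⟨z, rfl⟩ := cls_surjective (KM K M) p (p + 1) rfl x
  refine (map_cls (CohIII.tensorMap K (mulM a M)) p (p + 1) rfl z).trans ?_
  rw [← (cls (KM K M) p (p + 1) rfl).map_smul a z]
  congr 1
  apply Subtype.ext
  change LinearMap.lTensor (K.X p) (a • (LinearMap.id : M →ₗ[A] M)) z.1 = a • z.1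
  rw [LinearMap.lTensor_smul, LinearMap.lTensor_id]
  rfl

end Mul

section Geo

variable (A : Type u) [CommRing A] {X : Scheme.{u}} [X.Over (Spec (CommRingCat.of A))]
  (F : X.Modules)

attribute [local instance] secMod

/-- the comparison map of sections is linear over the base ring -/
theorem theta_smul (M : ModuleCat.{u} A) (W : X.Opens) (a : A) (x : Γ(F, W) ⊗[A] M) :
    theta A F M W (a • x) = alphaRing A X W a • theta A F M W x := by
  induction x using TensorProduct.induction_on with
  | zero => rw [smul_zero, map_zero, smul_zero]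
  | tmul s m =>
    rw [TensorProduct.smul_tmul', theta_tmul, theta_tmul, secMod_smul, TensorProduct.tmul_smul,
      map_smul]
  | add x y hx hy => rw [smul_add, map_add, hx, hy, map_add, smul_add]

/-- multiplication by a scalar on `M` induces multiplication by its image on sections of
`F ⊗ M` over affine opens -/
theorem PsiMap_mulM_app [F.IsQuasicoherent] (M : ModuleCat.{u} A) (a : A) {W : X.Opens}
    (hW : IsAffineOpen W) (y : Γ(Psi A F M, W)) :
    ((PsiMap A F (mulM a M)).app W).hom y = alphaRing A X W a • y := by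
  obtain ⟨x, rfl⟩ := (theta_bijective A F M hW).2 y
  rw [theta_map, ← theta_smul]
  congr 1
  change LinearMap.lTensor Γ(F, W) (a • (LinearMap.id : M →ₗ[A] M)) x = a • x
  rw [LinearMap.lTensor_smul, LinearMap.lTensor_id]
  rfl

/-- multiplication by a scalar on `M` induces multiplication by the corresponding global
function on the abelian sheaf underlying `F ⊗ M` -/
theorem toSheaf_map_PsiMap_mulM [F.IsQuasicoherent] (M : ModuleCat.{u} A) (a : A) :
    (SheafOfModules.toSheaf X.ringCatSheaf).map (PsiMap A F (mulM a M)) =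
      Coh.smulAb (Psi A F M) (Coh.toGlobal (X ↘ Spec (CommRingCat.of A)) a) := by
  apply Sheaf.hom_ext
  have hb : Opens.IsBasis (Set.range (Subtype.val : X.affineOpens → X.Opens)) := by
    rw [Subtype.range_coe]
    exact X.isBasis_affineOpens
  refine TopCat.Sheaf.hom_ext (Coh.toAb (Psi A F M)).obj (Coh.toAb (Psi A F M)) hb (fun U => ?_)
  apply ConcreteCategory.hom_ext
  intro y
  refine (PsiMap_mulM_app A F M a U.2 y).trans ?_
  rw [← Groth.Agent.Lib.Helper4.CechTen3.resTop_toGlobal]
  rfl

/-- the action of the base ring on the cohomology of `F ⊗ M` is induced by its action on `M` -/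
theorem HAb_map_mulM [F.IsQuasicoherent] (M : ModuleCat.{u} A) (a : A) (p : ℕ)
    (ξ : Coh.HH X ((CohIII.tensorAFunctor A F).obj M) p) :
    ((CohIII.HAb X p).map ((CohIII.tensorAFunctor A F).map (mulM a M))).hom ξ = a • ξ := by
  change Sheaf.H.map ((SheafOfModules.toSheaf X.ringCatSheaf).map (PsiMap A F (mulM a M))) p ξ = _
  rw [toSheaf_map_PsiMap_mulM]
  rfl

end Geo

section Nat

variable {A : Type u} [CommRing A] (K : CochainComplex (ModuleCat.{u} A) ℤ) (p : ℤ)
  {G : ModuleCat.{u} A ⥤ AddCommGrpCat.{u}}
  (e : CohIII.TFun K p ⋙ forget₂ (ModuleCat.{u} A) AddCommGrpCat.{u} ≅ G)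

theorem iso_nat {M M' : ModuleCat.{u} A} (g : M ⟶ M') (x : (CohIII.TFun K p).obj M) :
    (e.hom.app M').hom (((CohIII.TFun K p).map g).hom x) =
      (G.map g).hom ((e.hom.app M).hom x) :=
  ConcreteCategory.congr_hom (e.hom.naturality g) x

end Nat

section Equiv

variable {A : Type u} [CommRing A] [IsNoetherianRing A] {X : Scheme.{u}}
  [X.Over (Spec (CommRingCat.of A))] [IsProper (X ↘ Spec (CommRingCat.of A))]
  {F : X.Modules} [F.IsQuasicoherent] (D : MData A X F) (p : ℕ) (M : ModuleCat.{u} A)

/-- the comparison map -/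
noncomputable def cmp (x : (CohIII.TFun D.K (p : ℤ)).obj M) :
    Coh.HH X ((CohIII.tensorAFunctor A F).obj M) p :=
  ((Groth.Agent.Lib.Helper4.FibSurj1.MData.eH D p).hom.app M).hom x

theorem cmp_add (x y : (CohIII.TFun D.K (p : ℤ)).obj M) :
    cmp D p M (x + y) = cmp D p M x + cmp D p M y :=
  map_add ((Groth.Agent.Lib.Helper4.FibSurj1.MData.eH D p).hom.app M).hom x y

theorem cmp_bijective : Function.Bijective (cmp D p M) :=
  ConcreteCategory.bijective_of_isIso
    ((Groth.Agent.Lib.Helper4.FibSurj1.MData.eH D p).hom.app M)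

theorem cmp_nat (a : A) (x : (CohIII.TFun D.K (p : ℤ)).obj M) :
    cmp D p M (((CohIII.TFun D.K (p : ℤ)).map (mulM a M)).hom x) =
      ((CohIII.tensorAFunctor A F ⋙ CohIII.HAb X p).map (mulM a M)).hom (cmp D p M x) :=
  iso_nat D.K (p : ℤ) (Groth.Agent.Lib.Helper4.FibSurj1.MData.eH D p) (mulM a M) x

/-- the comparison is compatible with the scalar actions -/
theorem cmp_smul (a : A) (x : (CohIII.TFun D.K (p : ℤ)).obj M) :
    cmp D p M (a • x) = a • cmp D p M x := by
  have h1 : a • x = ((CohIII.TFun D.K (p : ℤ)).map (mulM a M)).hom x :=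
    (TFun_map_mulM D.K (p : ℤ) M a x).symm
  have h2 := HAb_map_mulM A F M a p (cmp D p M x)
  rw [h1, cmp_nat]
  exact h2

/-- **the cohomology of `F ⊗ M` is the homology of Mumford's complex tensored with `M`, linearly
over the base ring** -/
noncomputable def linEquiv :
    (CohIII.TFun D.K (p : ℤ)).obj M ≃ₗ[A] Coh.HH X ((CohIII.tensorAFunctor A F).obj M) p :=
  LinearEquiv.ofBijective
    { toFun := cmp D p M
      map_add' := cmp_add D p M
      map_smul' := cmp_smul D p M }
    (cmp_bijective D p M)

theorem length_HH_eq :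
    Module.length A (Coh.HH X ((CohIII.tensorAFunctor A F).obj M) p) =
      Module.length A ((CohIII.TFun D.K (p : ℤ)).obj M) :=
  (linEquiv D p M).symm.length_eq

end Equiv

end Groth.Agent.Helper7.CohLen
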