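import Mathlib
import Groth.Prelude.Def_ega3
import Groth.Agent.Lib.Helper7.CohLen.Lin
import Groth.Agent.Lib.Helper7.CohLen.Alg

set_option linter.style.haveILetI false
set_option linter.unusedVariables false
set_option linter.unusedSectionVars false
set_option autoImplicit false
set_option backward.isDefEq.respectTransparency.types false
set_option backward.isDefEq.respectTransparency false
set_option synthInstance.maxHeartbeats 400000
set_option maxHeartbeats 1600000

universe u

/-! helper7: over a Noetherian local base, a flat coherent module on a proper scheme is cohomologically flat in degree `p` if and only if the lengths of the cohomology of its truncations are eventually multiplicative -/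

open CategoryTheory CategoryTheory.Limits AlgebraicGeometry TensorProduct
open Groth.Agent.Lib.Helper4.ExchAlg1
open Groth.Agent.Lib.Helper4.ExchAlg2
open Groth.Agent.Lib.Helper4.MumBC2

namespace Groth.Agent.Helper7.CohLen

theorem cohFlat_iff_length_formula (A : Type u) [CommRing A]
    [IsNoetherianRing A] [IsLocalRing A] (X : Scheme.{u}) [X.Over (Spec (CommRingCat.of A))]
    [IsProper (X ↘ Spec (CommRingCat.of A))] (F : X.Modules) (hF : Coh.IsCoh F)
    (hfl : FlatMod.IsFlatOver (X ↘ Spec (CommRingCat.of A)) F) (p : ℕ) :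
    ((CohIII.tensorAFunctor A F ⋙ CohIII.HAb X p).PreservesMonomorphisms ∧
        (CohIII.tensorAFunctor A F ⋙ CohIII.HAb X p).PreservesEpimorphisms) ↔
      ∃ n₀ : ℕ, ∀ n : ℕ, n₀ ≤ n →
        Module.length A (Coh.HH X ((CohIII.tensorAFunctor A F).obj
            (ModuleCat.of A (A ⧸ IsLocalRing.maximalIdeal A ^ (n + 1)))) p) =
          Module.length A (Coh.HH X ((CohIII.tensorAFunctor A F).obj
              (ModuleCat.of A (IsLocalRing.ResidueField A))) p) *
            Module.length A (A ⧸ IsLocalRing.maximalIdeal A ^ (n + 1)) := by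
  haveI : F.IsQuasicoherent := hF.1
  obtain ⟨D⟩ := nonempty_mdata A X F hF hfl
  haveI : ∀ i, Module.Finite A (D.K.X i) := fun i => (D.hff i).1
  haveI : ∀ i, Module.Free A (D.K.X i) := fun i => (D.hff i).2
  have e := Groth.Agent.Lib.Helper4.FibSurj1.MData.eH D p
  rw [preservesMono_iff D.K (p : ℤ) e, preservesEpi_iff D.K (p : ℤ) e]
  constructor
  · rintro ⟨hI, hS⟩
    refine ⟨0, fun n _ => ?_⟩
    rw [length_HH_eq D p, length_HH_eq D p]
    exact length_formula_of_exact D.K ((p : ℤ) - 2) ((p : ℤ) - 1) (p : ℤ) ((p : ℤ) + 1)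
      (by ring) (by ring) rfl hI hS _
  · rintro ⟨n₀, h⟩
    apply exact_of_length_formula D.K ((p : ℤ) - 2) ((p : ℤ) - 1) (p : ℤ) ((p : ℤ) + 1)
      (by ring) (by ring) rfl
    refine ⟨n₀, fun n hn => ?_⟩
    rw [← length_HH_eq D p, ← length_HH_eq D p]
    exact h n hn

end Groth.Agent.Helper7.CohLen
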